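import Cfsg.Agent.H892.EP.TM
import Cfsg.Agent.KFacts.RgdSyl

/-!
# Parity of degrees from a root group datum (S4929, helper724)

* `inv2_of_rgd`, `parU_of_rgd` : if the torus is abelian and its elements of order a power of two have no common
  nontrivial fixed element in the SIMPLE root groups, then `Inv2 r Y` and `ParU r Y` hold.
-/

set_option autoImplicit false
set_option linter.unusedSectionVars false

open CoxeterSystem Cfsg.Agent.ChevalleyStructure.CoxeterGeom Cfsg.Agent.Tits.Roots Cfsg.Agent.Tits.Core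
  Cfsg.Agent.Tits.Exchange Cfsg.Agent.Nodes.Reps Cfsg.Agent.Nodes.BNOf Cfsg.Agent.Nodes.StabComb
  Cfsg.Agent.Nodes.Bruhat Cfsg.Agent.Nodes.OppDec Cfsg.Agent.Nodes.LeviDec Cfsg.Agent.H892.EP

namespace Cfsg.Agent.H724.EP

/-- the elements of the abelian group `T` of order a power of two -/
def twoPart {Y : Type*} [Group Y] (T : Subgroup Y) (hT : ∀ a ∈ T, ∀ b ∈ T, a * b = b * a) : Subgroup Y where
  carrier := {a | a ∈ T ∧ ∃ k : ℕ, a ^ 2 ^ k = 1}
  one_mem' := ⟨one_mem T, 0, one_pow _⟩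
  mul_mem' := by
    rintro a b ⟨ha, k, hk⟩ ⟨hb, l, hl⟩
    refine ⟨mul_mem ha hb, k + l, ?_⟩
    rw [Commute.mul_pow (hT a ha b hb), pow_add, pow_mul, hk, one_pow, one_mul, mul_comm, pow_mul, hl, one_pow]
  inv_mem' := by
    rintro a ⟨ha, k, hk⟩
    exact ⟨inv_mem ha, k, by rw [inv_pow, hk, inv_one]⟩

theorem mem_twoPart {Y : Type*} [Group Y] {T : Subgroup Y} {hT : ∀ a ∈ T, ∀ b ∈ T, a * b = b * a} {a : Y} :
    a ∈ twoPart T hT ↔ a ∈ T ∧ ∃ k : ℕ, a ^ 2 ^ k = 1 := Iff.rfl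

universe u

variable {I W : Type*} {Y : Type u} [Fintype I] [DecidableEq I] [Group W] [Group Y] {M : CoxeterMatrix I}
  {cs : CoxeterSystem M W} {A : I → I → ℤ} {h : IsCartan M A} {r : ℕ} {T : Subgroup Y} {n : I → Y}
  {X : (I → ℤ) → Subgroup Y}

/-- **The criterion**: only the simple root groups have to be checked. -/
theorem inv2_of_rgd [Finite W] [Finite Y] [Fact r.Prime] (R : RGD cs h r T n X)
    (hG : Cfsg.Agent.Nodes.RGDLib.G1 cs h X = ⊤) (hT : ∀ a ∈ T, ∀ b ∈ T, a * b = b * a)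
    (hx : ∀ i, ∀ u ∈ X (sr i), (∀ a ∈ T, (∃ k : ℕ, a ^ 2 ^ k = 1) → a * u = u * a) → u = 1) : Inv2 r Y := by
  have hGG : GG cs h T X = ⊤ := by
    rw [eq_top_iff, ← hG]
    exact le_sup_right
  obtain ⟨U, hU⟩ : ∃ S : Sylow r Y, (S : Subgroup Y) = RGD.Sup X (RGD.Pos cs h) := by
    have h1 := KFacts.RgdSyl.not_dvd_relIndex R
    rw [hGG, Subgroup.relIndex_top_right] at h1
    exact ⟨R.isPGroup_Upos.toSylow h1, rfl⟩
  refine ⟨U, twoPart T hT, ?_, ?_, ?_⟩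
  · rintro ⟨a, ha, k, hk⟩
    exact ⟨k, Subtype.ext hk⟩
  · intro a ha
    rw [hU]
    exact R.T_le_normalizer_U ha.1
  · intro u hu hfix
    rw [hU] at hu
    have h1 : u ∈ RGD.Sup X (RGD.Pos cs h) ⊓ Subgroup.centralizer (twoPart T hT : Set Y) :=
      ⟨hu, Subgroup.mem_centralizer_iff.2 hfix⟩
    rw [Cfsg.Agent.Nodes.NormalForm.centralizer_U R (fun a ha => ha.1)] at h1
    have h2 : RGD.Sup (fun x => X x ⊓ Subgroup.centralizer (twoPart T hT : Set Y)) (RGD.Pos cs h) ≤ ⊥ := by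
      refine RGD.Sup_le ?_
      rintro x ⟨⟨w, i, rfl⟩, -⟩ v ⟨hv, hc⟩
      obtain ⟨g, hg⟩ := exists_rp cs R.nsys w
      have h3 := R.conj_mem' hg ((isRoot_sr cs h i).act w) hv
      rw [rep_inv_apply] at h3
      have h4 := hx i _ h3 fun a ha hk => by
        obtain ⟨k, hk⟩ := hk
        have h5 : g * a * g⁻¹ ∈ twoPart T hT := by
          refine ⟨(Subgroup.mem_normalizer_iff.1 hg.mem_normalizer a).1 ha, k, ?_⟩
          rw [conj_pow, hk, mul_one, mul_inv_cancel]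
        have h6 := Subgroup.mem_centralizer_iff.1 hc _ h5
        calc a * (g⁻¹ * v * g) = g⁻¹ * (g * a * g⁻¹ * v) * g := by group
          _ = g⁻¹ * (v * (g * a * g⁻¹)) * g := by rw [h6]
          _ = g⁻¹ * v * g * a := by group
      rw [Subgroup.mem_bot]
      have h7 : v = g * (g⁻¹ * v * g) * g⁻¹ := by group
      rw [h7, h4, mul_one, mul_inv_cancel]
    exact (Subgroup.mem_bot.1 (h2 h1))

theorem parU_of_rgd [Finite W] [Finite Y] [Fact r.Prime] (hr : r ≠ 2) (R : RGD cs h r T n X)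
    (hG : Cfsg.Agent.Nodes.RGDLib.G1 cs h X = ⊤) (hT : ∀ a ∈ T, ∀ b ∈ T, a * b = b * a)
    (hx : ∀ i, ∀ u ∈ X (sr i), (∀ a ∈ T, (∃ k : ℕ, a ^ 2 ^ k = 1) → a * u = u * a) → u = 1) : ParU r Y :=
  parU_of_inv2 hr (inv2_of_rgd R hG hT hx)

end Cfsg.Agent.H724.EP
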