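import Cfsg.Agent.H892.EP.TM
import Cfsg.Agent.ClassicalGeometry.AutPSL.SylowU

/-!
# Parity of degrees for `PSL_n(q)`, `n ≥ 3`, `q` odd (S4929, piece [PU-PSL], helper724)
-/

set_option autoImplicit false
set_option linter.unusedSectionVars false

namespace Cfsg.Agent.H724.EP

open Matrix Cfsg.Agent.H892.EP
open Cfsg.Agent.ClassicalGeometry.AutPSL.Root Cfsg.Agent.ClassicalGeometry.AutPSL.SylowU

variable {F : Type} [Field F] {n : ℕ}

/-- the diagonal matrices with entries `± 1` -/
def sgnG (n : ℕ) (F : Type) [Field F] : Subgroup (Matrix.SpecialLinearGroup (Fin n) F) where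
  carrier := {g | ∃ s : Fin n → F, (∀ i, s i * s i = 1) ∧ (g : Matrix (Fin n) (Fin n) F) = diagonal s}
  one_mem' := ⟨fun _ => 1, fun _ => one_mul 1, by rw [Matrix.SpecialLinearGroup.coe_one]; rfl⟩
  mul_mem' := by
    rintro g g' ⟨s, hs, h⟩ ⟨s', hs', h'⟩
    refine ⟨fun i => s i * s' i, fun i => ?_, by rw [Matrix.SpecialLinearGroup.coe_mul, h, h', diagonal_mul_diagonal]⟩
    linear_combination s' i * s' i * hs i + hs' i
  inv_mem' := by
    rintro g ⟨s, hs, h⟩
    have h1 : g * g = 1 := by
      apply Subtype.ext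
      rw [Matrix.SpecialLinearGroup.coe_mul, h, diagonal_mul_diagonal, Matrix.SpecialLinearGroup.coe_one]
      simp only [hs]
      rfl
    rw [inv_eq_of_mul_eq_one_left h1]
    exact ⟨s, hs, h⟩

theorem sgnG_mul_self {g : Matrix.SpecialLinearGroup (Fin n) F} (hg : g ∈ sgnG n F) : g * g = 1 := by
  obtain ⟨s, hs, h⟩ := hg
  apply Subtype.ext
  rw [Matrix.SpecialLinearGroup.coe_mul, h, diagonal_mul_diagonal, Matrix.SpecialLinearGroup.coe_one]
  simp only [hs]
  rfl

theorem sgnG_conj {g u : Matrix.SpecialLinearGroup (Fin n) F} {s : Fin n → F} (hs : ∀ i, s i * s i = 1)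
    (h : (g : Matrix (Fin n) (Fin n) F) = diagonal s) (i j : Fin n) :
    ((g * u * g⁻¹ : Matrix.SpecialLinearGroup (Fin n) F) : Matrix (Fin n) (Fin n) F) i j = s i * u.1 i j * s j := by
  have h1 : g⁻¹ = g := inv_eq_of_mul_eq_one_left (sgnG_mul_self ⟨s, hs, h⟩)
  rw [h1, Matrix.SpecialLinearGroup.coe_mul, Matrix.SpecialLinearGroup.coe_mul, h, Matrix.mul_diagonal,
    Matrix.diagonal_mul]

theorem conj_mem_upper [Finite F] {g u : Matrix.SpecialLinearGroup (Fin n) F} (hg : g ∈ sgnG n F)
    (hu : u ∈ upper n F) : g * u * g⁻¹ ∈ upper n F := by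
  obtain ⟨s, hs, h⟩ := hg
  intro i j hij
  rw [sgnG_conj hs h, hu i j hij]
  split_ifs with h1
  · subst h1
    rw [mul_one, hs]
  · rw [mul_zero, zero_mul]

variable [Fintype F] {r : ℕ} [Fact r.Prime] [CharP F r]

/-- **[PU-PSL]** -/
theorem pu_psl (hr : r ≠ 2) {n : ℕ} (hn : 3 ≤ n) : ParU r (ProjectiveSpecialLinearGroup (Fin n) F) := by
  have hfin : Finite (ProjectiveSpecialLinearGroup (Fin n) F) := Quotient.finite _
  have h2 : (2 : F) ≠ 0 := by
    intro h
    have h1 : r ∣ 2 := by
      rw [← CharP.cast_eq_zero_iff F r 2]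
      exact_mod_cast h
    exact hr ((Nat.prime_dvd_prime_iff_eq (Fact.out : r.Prime) Nat.prime_two).1 h1)
  obtain ⟨S, hS⟩ := exists_sylow (F := F) n r
  refine parU_of_inv2 hr ⟨S, (sgnG n F).map pr, ?_, ?_, ?_⟩
  · rintro ⟨_, g, hg, rfl⟩
    refine ⟨1, Subtype.ext ?_⟩
    show (pr g) ^ 2 ^ 1 = 1
    rw [pow_one, ← map_pow, pow_two, sgnG_mul_self hg, map_one]
  · rintro _ ⟨g, hg, rfl⟩
    rw [hS, Subgroup.mem_normalizer_iff]
    have key : ∀ g ∈ sgnG n F, ∀ u ∈ (upper n F).map pr, pr g * u * (pr g)⁻¹ ∈ (upper n F).map pr := by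
      rintro g hg _ ⟨u, hu, rfl⟩
      exact ⟨g * u * g⁻¹, conj_mem_upper hg hu, by rw [map_mul, map_mul, map_inv]⟩
    intro u
    refine ⟨fun hu => key g hg u hu, fun hu => ?_⟩
    have h3 := key g⁻¹ (inv_mem hg) _ hu
    rw [map_inv] at h3
    have h4 : (pr g)⁻¹ * (pr g * u * (pr g)⁻¹) * (pr g)⁻¹⁻¹ = u := by group
    rwa [h4] at h3
  · intro u hu hfix
    rw [hS] at hu
    obtain ⟨u, hu, rfl⟩ := hu
    have key : ∀ g ∈ sgnG n F, g * u * g⁻¹ = u := by
      intro g hg
      refine pr_injOn_upper (conj_mem_upper hg hu) hu ?_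
      rw [map_mul, map_mul, map_inv, hfix _ ⟨g, hg, rfl⟩, mul_inv_cancel_right]
    suffices h3 : u = 1 by rw [h3, map_one]
    apply Subtype.ext
    ext i j
    rw [Matrix.SpecialLinearGroup.coe_one]
    by_cases hij : i = j
    · subst hij
      rw [one_apply_eq, hu i i le_rfl, if_pos rfl]
    · rw [one_apply_ne hij]
      -- a third index
      obtain ⟨k, hki, hkj⟩ : ∃ k : Fin n, k ≠ i ∧ k ≠ j := by
        by_contra hcon
        push Not at hcon
        have h4 : (Finset.univ : Finset (Fin n)) ⊆ {i, j} := by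
          intro k _
          rw [Finset.mem_insert, Finset.mem_singleton]
          by_cases h5 : k = i
          · exact Or.inl h5
          · exact Or.inr (hcon k h5)
        have h5 := Finset.card_le_card h4
        rw [Finset.card_univ, Fintype.card_fin] at h5
        have h6 := Finset.card_le_two (a := i) (b := j)
        omega
      let s : Fin n → F := fun l => if l = i ∨ l = k then -1 else 1
      have hs : ∀ l, s l * s l = 1 := by
        intro l
        simp only [s]
        split_ifs <;> ring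
      have hdet : (diagonal s).det = 1 := by
        rw [det_diagonal]
        have h4 : ∏ l, s l = ∏ l ∈ ({i, k} : Finset (Fin n)), s l := by
          symm
          apply Finset.prod_subset (Finset.subset_univ _)
          intro l _ hl
          rw [Finset.mem_insert, Finset.mem_singleton] at hl
          exact if_neg hl
        rw [h4, Finset.prod_pair (Ne.symm hki)]
        simp only [s, true_or, or_true, if_true]
        ring
      let D : Matrix.SpecialLinearGroup (Fin n) F := ⟨diagonal s, hdet⟩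
      have hD : (D : Matrix (Fin n) (Fin n) F) = diagonal s := rfl
      have h4 : ((D * u * D⁻¹ : Matrix.SpecialLinearGroup (Fin n) F) : Matrix (Fin n) (Fin n) F) i j =
          (u : Matrix (Fin n) (Fin n) F) i j := by rw [key D ⟨s, hs, hD⟩]
      rw [sgnG_conj hs hD] at h4
      have h5 : s i = -1 := if_pos (Or.inl rfl)
      have h6 : s j = 1 := if_neg (by rintro (h7 | h7); exacts [hij h7.symm, hkj h7.symm])
      rw [h5, h6] at h4
      have h7 : 2 * (u : Matrix (Fin n) (Fin n) F) i j = 0 := by linear_combination -h4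
      exact (mul_eq_zero.1 h7).resolve_left h2

end Cfsg.Agent.H724.EP
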