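import Cfsg.Agent.H724.EP.WittPar
import Cfsg.Agent.FixBN.WittNodeC

/-!
# Parity of degrees for `PSU_n(q)`, `n ≥ 3`, `q` odd (S4929, piece [PU-PSU], helper724)
-/

set_option autoImplicit false
set_option linter.unusedSectionVars false

namespace Cfsg.Agent.H724.EP

open Cfsg Cfsg.Agent.ChevalleyStructure.CoxeterGeom Cfsg.Agent.Tits.Roots Cfsg.Agent.Nodes.TypeC
open Cfsg.Agent.Nodes.Comb Cfsg.Agent.Nodes.Reps Cfsg.Agent.Nodes.WittRoot Cfsg.Agent.Nodes.BNOf
open Cfsg.Agent.Nodes.WittRGD Cfsg.Agent.Nodes.RGDLib Cfsg.Agent.Nodes.WittU Cfsg.Agent.H892.EP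
open Cfsg.Agent.TitsThree Cfsg.Agent.TitsThree.Siegel Cfsg.Agent.TitsThree.SiegelGen
  Cfsg.Agent.TitsThree.WittFrame Cfsg.Agent.TitsThree.WBridge Cfsg.Agent.TitsThree.WittWeyl
  Cfsg.Agent.TitsThree.FrameCN Cfsg.Agent.TitsThree.KSideU Cfsg.Agent.TitsThree.KSideUDesc
  Cfsg.Agent.LieClassical.HermBasic

/-- an element of order a power of two of `F_{q²}` with `t ^ (q + 1) ≠ 1` -/
theorem exists_two {F : Type} [Field F] [Fintype F] {q : ℕ} (hF : Fintype.card F = q ^ 2) (ho : Odd q) :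
    ∃ (t : F) (k : ℕ), t ≠ 0 ∧ t ^ 2 ^ k = 1 ∧ t ^ (q + 1) ≠ 1 ∧ t ^ 2 ≠ 1 ∧ t ^ (2 * q - 1) ≠ 1 ∧ t ≠ 1 := by
  classical
  have hq1 : 1 < q := by
    rcases Nat.lt_or_ge 1 q with h | h
    · exact h
    · exfalso
      have h1 : 1 < Fintype.card F := Fintype.one_lt_card
      rw [hF] at h1
      interval_cases q <;> omega
  have hpos : 0 < q ^ 2 - 1 := by
    have : 1 < q ^ 2 := Nat.one_lt_pow two_ne_zero hq1
    omega
  obtain ⟨g, hg⟩ := IsCyclic.exists_ofOrder_eq_natCard (α := Fˣ)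
  rw [Nat.card_eq_fintype_card, Fintype.card_units, hF] at hg
  set a := (q ^ 2 - 1).factorization 2 with ha
  obtain ⟨b, hb⟩ : 2 ^ a ∣ q ^ 2 - 1 := Nat.ordProj_dvd _ _
  have hb0 : b ≠ 0 := by
    rintro rfl
    rw [mul_zero] at hb
    omega
  set t : Fˣ := g ^ b with ht
  have hot : orderOf t = 2 ^ a := by
    rw [ht, orderOf_pow_of_dvd hb0 (by rw [hg, hb]; exact Dvd.intro_left _ rfl), hg, hb]
    exact Nat.mul_div_cancel _ (Nat.pos_of_ne_zero hb0)
  have hne : ¬ 2 ^ a ∣ q + 1 := by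
    intro h
    obtain ⟨c, hc⟩ := h
    obtain ⟨e, he⟩ := ho
    have h1 : 2 ^ (a + 1) ∣ q ^ 2 - 1 := by
      refine ⟨c * e, ?_⟩
      have h2 : q ^ 2 - 1 = (q + 1) * (q - 1) := by
        have := Nat.sq_sub_sq q 1
        rwa [one_pow] at this
      have h3 : q - 1 = 2 * e := by omega
      rw [h2, hc, h3, pow_succ]
      ring
    have h2 := (Nat.Prime.pow_dvd_iff_le_factorization Nat.prime_two hpos.ne').1 h1
    omega
  have h1 : t ^ (q + 1) ≠ 1 := by
    intro h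
    apply hne
    rw [← hot]
    exact orderOf_dvd_of_pow_eq_one h
  have h2 : t ^ 2 ≠ 1 := by
    intro h
    apply h1
    obtain ⟨e, he⟩ := ho
    have h3 : q + 1 = 2 * (e + 1) := by omega
    rw [h3, pow_mul, h, one_pow]
  have h4 : t ≠ 1 := by
    intro h
    apply h2
    rw [h, one_pow]
  have h3 : t ^ (2 * q - 1) ≠ 1 := by
    intro h
    have h5 : orderOf t ∣ 2 * q - 1 := orderOf_dvd_of_pow_eq_one h
    rw [hot] at h5
    have h6 : a ≠ 0 := by
      intro h7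
      rw [h7, pow_zero] at hot
      exact h4 (orderOf_eq_one_iff.1 hot)
    have h7 : 2 ∣ 2 * q - 1 := (dvd_pow_self 2 h6).trans h5
    omega
  have hcoe : ∀ m : ℕ, ((t : F) ^ m = 1 ↔ t ^ m = 1) := by
    intro m
    rw [← Units.val_pow_eq_pow_val]
    exact Units.val_eq_one
  refine ⟨(t : F), a, t.ne_zero, (hcoe _).2 (by rw [← hot]; exact pow_orderOf_eq_one t),
    fun h => h1 ((hcoe _).1 h), fun h => h2 ((hcoe _).1 h), fun h => h3 ((hcoe _).1 h), fun h => h4 ?_⟩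
  exact Units.val_eq_one.1 h

section

variable {F : Type} [Field F] [Fintype F] {r : ℕ} [Fact r.Prime] [CharP F r]

theorem odd_q' (hr : r ≠ 2) {q : ℕ} (hF : Fintype.card F = q ^ 2) : Odd q := by
  have hp2 : Odd r := (Fact.out : r.Prime).odd_of_ne_two hr
  obtain ⟨n, -, hn⟩ := FiniteField.card F r
  have h1 : Odd (q ^ 2) := by rw [← hF, hn]; exact hp2.pow
  by_contra hq
  rw [Nat.not_odd_iff_even] at hq
  rw [sq] at h1
  exact (Nat.not_odd_iff_even.2 (hq.mul_right q)) h1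

/-- the torus element for `PSU_3(q)` -/
theorem exists_zz {n q m : ℕ} (hF : Fintype.card F = q ^ 2) (ho : Odd q) (W : WFrame (PU hF n) m) (hm : m = 1)
    (x : Fin m × Bool) {d : Fin n → F} (hd : W.V0 = Submodule.span F {d}) (hd1 : hermForm n F q d d = 1) {t : F} (ht : t ≠ 0) {k : ℕ}
    (hk : t ^ 2 ^ k = 1) :
    ∃ g ∈ Tor (toFrame W) (IU F q n), g ^ 2 ^ k = 1 ∧ g ((toFrame W).b x) = t • (toFrame W).b x ∧
      ∀ b : F, g (b • d) = (t ^ q * t⁻¹ * b) • d := by
  have hA := amb_U hF W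
  have hdV : d ∈ W.V0 := by rw [hd]; exact Submodule.mem_span_singleton_self d
  obtain ⟨p0, hp0, hw0⟩ := exists_adm hF W
  have hc0 : p0.c ^ q = -p0.c := by
    have h1 := p0.ok.2
    rw [ok_iff, hw0, herm_zero_left, neg_zero] at h1
    linear_combination h1
  set c0 := p0.c with hc0def
  have hneg : (-1 : F) ^ q = -1 := ho.neg_one_pow
  obtain ⟨a, ha⟩ := exists_norm_eq hF (c := c0 * (t - t ^ q)) (by
    rw [mul_pow, sub_pow_q hF, pow_q_pow_q hF, hc0]
    ring)
  have hcq : (-(t * c0)) ^ q = t ^ q * c0 := by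
    rw [neg_pow, hneg, mul_pow, hc0]
    ring
  have hok : (toFrame W).ok (a • d) (-(t * c0)) := by
    refine ⟨W.V0.smul_mem _ hdV, ?_⟩
    rw [ok_iff, herm_smul_left, herm_smul_right, hd1, hcq]
    linear_combination ha
  let p : (toFrame W).Adm := ⟨a • d, -(t * c0), hok⟩
  have hpc : p.c ≠ 0 := neg_ne_zero.2 (mul_ne_zero ht hp0)
  have hη := (toFrame W).η_ne x
  have htq : t ^ q ≠ 0 := pow_ne_zero _ ht
  have hσ : ∀ y : F, (HU hF n).σ y = y ^ q := fun y => rfl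
  have hε : (HU hF n).ε = 1 := rfl
  have hx : (nZ (toFrame W) x p * nZ (toFrame W) x p0) ((toFrame W).b x) = t • (toFrame W).b x := by
    rw [mul_apply', nZ_apply_self _ x p0 hp0, map_smul, nZ_apply_neg _ x p hpc, smul_smul, hσ, hε]
    congr 1
    change 1 * ((toFrame W).η x)⁻¹ * (c0 ^ q)⁻¹ * ((toFrame W).η x * -(t * c0)) = t
    rw [hc0]
    field_simp
  have hnx : (nZ (toFrame W) x p * nZ (toFrame W) x p0) ((toFrame W).b (neg x)) =
      (t ^ q)⁻¹ • (toFrame W).b (neg x) := by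
    rw [mul_apply', nZ_apply_neg _ x p0 hp0, map_smul, nZ_apply_self _ x p hpc, smul_smul, hσ, hε]
    congr 1
    change (toFrame W).η x * c0 * (1 * ((toFrame W).η x)⁻¹ * ((-(t * c0)) ^ q)⁻¹) = (t ^ q)⁻¹
    rw [hcq]
    field_simp
  have hdd : ∀ b : F, (nZ (toFrame W) x p * nZ (toFrame W) x p0) (b • d) = (t ^ q * t⁻¹ * b) • d := by
    intro b
    have hbd : b • d ∈ (toFrame W).V0 := W.V0.smul_mem _ hdV
    rw [mul_apply', nZ_apply_V0 _ x p0 hp0 hbd, hw0, smul_zero, add_zero, nZ_apply_V0 _ x p hpc hbd, hε]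
    change b • d + (1⁻¹ * (-(t * c0))⁻¹ * hermForm n F q (b • d) (a • d)) • (a • d) = _
    rw [herm_smul_left, herm_smul_right, hd1, smul_smul, ← add_smul]
    congr 1
    field_simp
    linear_combination (-b) * ha
  have hall : ∀ z, ∃ l : F, l ≠ 0 ∧ (nZ (toFrame W) x p * nZ (toFrame W) x p0) ((toFrame W).b z) =
      l • (toFrame W).b z ∧ l ^ 2 ^ k = 1 := by
    intro z
    have h1 : z.1 = x.1 := by
      subst hm
      exact Subsingleton.elim _ _
    rcases eq_or_ng h1 with rfl | rfl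
    · exact ⟨t, ht, hx, hk⟩
    · refine ⟨(t ^ q)⁻¹, inv_ne_zero htq, hnx, ?_⟩
      rw [inv_pow, ← pow_mul, mul_comm, pow_mul, hk, one_pow, inv_one]
  refine ⟨nZ (toFrame W) x p * nZ (toFrame W) x p0, ⟨mul_mem (nZ_mem hA _ _) (nZ_mem hA _ _), fun z => ?_⟩, ?_, hx,
    hdd⟩
  · obtain ⟨l, hl, h1, -⟩ := hall z
    exact ⟨l, hl, h1⟩
  · refine pow_eq_one_of hA (fun z => ?_) fun w hw => ?_
    · obtain ⟨l, -, h1, h2⟩ := hall z
      exact ⟨l, h1, h2⟩
    · obtain ⟨b, rfl⟩ := Submodule.mem_span_singleton.1 (hd ▸ hw : w ∈ Submodule.span F {d})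
      refine ⟨t ^ q * t⁻¹, by rw [hdd, mul_smul], ?_⟩
      rw [mul_pow, ← pow_mul, mul_comm q, pow_mul, hk, one_pow, inv_pow, hk, inv_one, mul_one]

theorem pu_frame (hr : r ≠ 2) {n q m : ℕ} (hF : Fintype.card F = q ^ 2) (hn : 3 ≤ n) (hm : 0 < m)
    (W : WFrame (PU hF n) m) (d : Fin n → F) (hd : W.V0 = Submodule.span F {d})
    (hd1 : m = 1 → hermForm n F q d d = 1) : ParU r (PSU n F q) := by
  have ho := odd_q' hr hF
  obtain ⟨t, k, ht, hk, h1, h2, h3, h4⟩ := exists_two hF ho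
  have hσ : ∀ y : F, (HU hF n).σ y = y ^ q := fun y => rfl
  obtain ⟨p0, hp0, -⟩ := exists_adm hF W
  have hA := amb_U hF W
  have hfin : Finite (CoxeterMatrix.B m).Group := finite_W (CoxeterMatrix.B m).toCoxeterSystem
  have hfin' : Finite (PSU n F q) := Quotient.finite _
  have R := Nodes.WittModel.rgd (KInstU.model hF hn W) hA ((Fact.out : r.Prime).odd_of_ne_two hr) hp0
    (CoxeterMatrix.B m).toCoxeterSystem
  refine parU_of_rgd hr R (Nodes.WittModel.G1_eq_top _ hm _) ?_ ?_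
  · rintro _ ⟨g, hg, rfl⟩ _ ⟨g', hg', rfl⟩
    rw [← map_mul, ← map_mul]
    exact congrArg _ (Subtype.ext (Cfsg.Agent.FixBN.WittNodeC.comm_Tor W hA d hd (Subgroup.mem_subgroupOf.1 hg)
      (Subgroup.mem_subgroupOf.1 hg')))
  · intro i u hu hc
    obtain ⟨g, hg, hgX, rfl⟩ := (Nodes.WittModel.mem_X _).1 hu
    rw [rg_sr] at hgX
    have hc' : ∀ s ∈ Tor (toFrame W) (IU F q n), (∃ k, s ^ 2 ^ k = 1) → s * g * s⁻¹ = g := by
      rintro s hs ⟨j, hj⟩
      refine conj_eq_of_comm (p := r) (KInstU.model hF hn W) hA (ok_nx i) hgX hg hs (hc _ ⟨⟨s, hs.1⟩, hs, rfl⟩ ⟨j, ?_⟩)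
      rw [← map_pow]
      have h5 : (⟨s, hs.1⟩ : (KInstU.model hF hn W).I) ^ 2 ^ j = 1 := Subtype.ext hj
      rw [h5, map_one]
    suffices hg1 : g = 1 by
      subst hg1
      exact map_one _
    by_cases hi : (i : ℕ) + 1 < m
    · have hne : ((i, true) : Fin m × Bool).1 ≠ (nx i).1 := by
        unfold nx; rw [dif_pos hi]; simp [Fin.ext_iff]
      rw [PG_ne _ hne] at hgX
      obtain ⟨s, rfl⟩ := hgX
      exact X_of_hh hne ht h2 (hc' _ (hh_mem hne ht hA) ⟨k, hh_pow hne ht hA hk⟩)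
    · have hnx : nx i = (i, true) := by unfold nx; rw [dif_neg hi]
      rw [hnx, PG_self] at hgX
      obtain ⟨p, rfl⟩ := hgX
      rcases Nat.lt_or_ge 1 m with hm2 | hm1
      · have hne : ((⟨(i : ℕ) - 1, by omega⟩, true) : Fin m × Bool).1 ≠ ((i, false) : Fin m × Bool).1 := by
          intro h5
          have h6 := congrArg Fin.val h5
          simp only at h6
          have := i.2
          omega
        exact Z_of_hh hne ht h4 (by rw [hσ, ← pow_succ']; exact h1)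
          (hc' _ (hh_mem hne ht hA) ⟨k, hh_pow hne ht hA hk⟩)
      · have hm1' : m = 1 := by omega
        obtain ⟨g, hgT, hgk, hgx, hgd⟩ := exists_zz hF ho W hm1' (i, true) hd (hd1 hm1') ht hk
        have h5 := hc' g hgT ⟨k, hgk⟩
        obtain ⟨q', hq1, hq2⟩ := hA.exists_adm hgT.1 hgT.2 (ρ := id) (fun _ => rfl) p
        rw [conj_Z (toFrame W) (hA.iso g hgT.1) hgx p q' hq1 hq2, Z_eq_iff] at h5
        have hw : (HU hF n).σ t • q'.w = p.w := congrArg Frame.Adm.w h5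
        have hcc : (HU hF n).σ t * (HU hF n).σ ((HU hF n).σ t) * q'.c = p.c := congrArg Frame.Adm.c h5
        obtain ⟨b, hb⟩ := Submodule.mem_span_singleton.1 (hd ▸ ((toFrame W).ok_mem p.ok) : p.w ∈ Submodule.span F {d})
        have hw0 : p.w = 0 := by
          rw [← hq1, ← hb, hgd, hσ, smul_smul, ← sub_eq_zero, ← sub_smul] at hw
          rcases smul_eq_zero.1 hw with h6 | h6
          · have h7 : (t ^ (2 * q - 1) - 1) * b = 0 := by
              have h8 : t ^ (2 * q - 1) = t ^ q * t ^ q * t⁻¹ := by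
                have hq0 : 0 < q := ho.pos
                rw [← pow_add, eq_mul_inv_iff_mul_eq₀ ht, ← pow_succ]
                congr 1
                omega
              rw [h8]
              linear_combination h6
            rw [← hb, (mul_eq_zero.1 h7).resolve_left (sub_ne_zero.2 h3), zero_smul]
          · rw [← hb, h6, smul_zero]
        have hc0 : p.c = 0 := by
          rw [← hq2, HForm.σσ, hσ] at hcc
          have h7 : (t ^ (q + 1) - 1) * p.c = 0 := by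
            rw [pow_succ]
            linear_combination hcc
          exact (mul_eq_zero.1 h7).resolve_left (sub_ne_zero.2 h1)
        have h9 : p = 1 := Frame.Adm.ext hw0 hc0
        rw [h9, (toFrame W).Z_one]

/-- **[PU-PSU]** -/
theorem pu_psu (hr : r ≠ 2) {n q : ℕ} (hq : Fintype.card F = q ^ 2) (hn : 3 ≤ n) : ParU r (PSU n F q) := by
  obtain ⟨m, hm⟩ : ∃ m, n = 2 * m ∨ n = 2 * m + 1 := ⟨n / 2, by omega⟩
  rcases hm with hm | hm
  · obtain ⟨W, hW⟩ := exists_wframe_even hq hm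
    refine pu_frame hr hq hn (by omega) W 0 (by rw [hW, Submodule.span_zero_singleton]) fun h => by omega
  · obtain ⟨W, d, hd, hW⟩ := exists_wframe_odd hq hm
    exact pu_frame hr hq hn (by omega) W d hW fun _ => hd

end

end Cfsg.Agent.H724.EP
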