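import Cfsg.Agent.H724.EP.InvRgd
import Cfsg.Agent.Nodes.WittU

/-!
# Parity for the models of Witt frames (S4929, helper724)

* `conj_eq_of_comm` : a torus element commuting with a root element modulo the kernel commutes with it;
* `hh x y t` : the torus element `nX x y t * nX x y (-1)`; `hh_apply_*`, `hh_pow`, `hh_mem`;
* `X_of_hh`, `Z_of_hh` : the root elements commuting with `hh x y t`.
-/

set_option autoImplicit false
set_option linter.unusedSectionVars false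

namespace Cfsg.Agent.H724.EP

open Cfsg Cfsg.Agent.ChevalleyStructure.CoxeterGeom Cfsg.Agent.Tits.Roots Cfsg.Agent.Nodes.TypeC
open Cfsg.Agent.Nodes.Comb Cfsg.Agent.Nodes.Reps Cfsg.Agent.Nodes.WittRoot Cfsg.Agent.Nodes.BNOf
open Cfsg.Agent.Nodes.WittRGD Cfsg.Agent.Nodes.RGDLib
open Cfsg.Agent.TitsThree Cfsg.Agent.TitsThree.Siegel Cfsg.Agent.TitsThree.WittFrame Cfsg.Agent.TitsThree.WittWeyl
  Cfsg.Agent.TitsThree.FrameCN

variable {F : Type*} [Field F] {V : Type*} [AddCommGroup V] [Module F V] {H : HForm F V} {n : ℕ}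
  {Fr : Frame H (Fin n)} {G0 : Subgroup (V ≃ₗ[F] V)}

/-- A torus element commuting with a root element modulo the kernel commutes with it. -/
theorem conj_eq_of_comm {K : Type*} [Group K] (M : Model Fr K) [Finite V] {p : ℕ} [Fact p.Prime] [CharP F p]
    (hA : Amb Fr M.I) {a b : Fin n × Bool} (hab : Ok a b) {g t : V ≃ₗ[F] V} (hg : g ∈ PG Fr a b) (hgI : g ∈ M.I)
    (ht : t ∈ Tor Fr M.I) (h : M.φ ⟨t, ht.1⟩ * M.φ ⟨g, hgI⟩ = M.φ ⟨g, hgI⟩ * M.φ ⟨t, ht.1⟩) : t * g * t⁻¹ = g := by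
  have hfin : Finite (V ≃ₗ[F] V) := Finite.of_injective (fun g : V ≃ₗ[F] V => (g : V → V)) DFunLike.coe_injective
  have h1 : t * g * t⁻¹ ∈ PG Fr a b := by
    rw [← hA.cj_id ht.1 ht.2 hab]
    exact conj_mem_cj.2 hg
  have h2 : t * g * t⁻¹ * g⁻¹ ∈ PG Fr a b := mul_mem h1 (inv_mem hg)
  set z := t * g * t⁻¹ * g⁻¹ with hz
  have hzI : z ∈ M.I := hA.PG_le h2
  have hk : M.φ ⟨z, hzI⟩ = 1 := by
    have e : (⟨z, hzI⟩ : M.I) = ⟨t, ht.1⟩ * ⟨g, hgI⟩ * ⟨t, ht.1⟩⁻¹ * ⟨g, hgI⟩⁻¹ := rfl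
    rw [e, map_mul, map_mul, map_mul, map_inv, map_inv, h]
    group
  have hT : z ∈ Tor Fr M.I := by
    refine ⟨hzI, fun x => ?_⟩
    obtain ⟨l, hl⟩ := M.ker (Fr.b x) ⟨z, hzI⟩ hk
    refine ⟨l, ?_, hl⟩
    rintro rfl
    rw [zero_smul] at hl
    exact b_ne_zero x (z.map_eq_zero_iff.1 hl)
  obtain ⟨k, hk'⟩ := (isPGroup_PG (p := p) (Fr := Fr) a b) ⟨z, h2⟩
  have h3 : z ^ p ^ k = 1 := congrArg Subtype.val hk'
  have h4 : z ^ Nat.card (Tor Fr M.I) = 1 := by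
    have := pow_card_eq_one' (x := (⟨z, hT⟩ : Tor Fr M.I))
    exact congrArg Subtype.val this
  have h5 : orderOf z ∣ 1 := by
    have h6 : (Nat.card (Tor Fr M.I)).Coprime (p ^ k) := (tcop (p := p) hA).pow_right k
    rw [← h6]
    exact Nat.dvd_gcd (orderOf_dvd_of_pow_eq_one h4) (orderOf_dvd_of_pow_eq_one h3)
  have h6 : z = 1 := orderOf_eq_one_iff.1 (Nat.dvd_one.1 h5)
  rw [hz] at h6
  exact mul_inv_eq_one.1 h6

/-! ### Diagonal elements -/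

theorem pow_apply_of {g : V ≃ₗ[F] V} {v : V} {l : F} (h : g v = l • v) (m : ℕ) : (g ^ m) v = l ^ m • v := by
  induction m with
  | zero => rw [pow_zero, pow_zero, one_smul]; rfl
  | succ m ih => rw [pow_succ, mul_apply', h, map_smul, ih, smul_smul, pow_succ, mul_comm]

theorem pow_eq_one_of (hA : Amb Fr G0) {g : V ≃ₗ[F] V} {m : ℕ}
    (hb : ∀ z, ∃ l : F, g (Fr.b z) = l • Fr.b z ∧ l ^ m = 1) (h0 : ∀ w ∈ Fr.V0, ∃ l : F, g w = l • w ∧ l ^ m = 1) :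
    g ^ m = 1 := by
  refine Cfsg.Agent.Nodes.WittRGD.Amb.eq_one_of_fix hA (fun z => ?_) fun w hw => ?_
  · obtain ⟨l, h1, h2⟩ := hb z
    rw [pow_apply_of h1, h2, one_smul]
  · obtain ⟨l, h1, h2⟩ := h0 w hw
    rw [pow_apply_of h1, h2, one_smul]

variable (Fr) in
/-- the torus element of a pair -/
def hh (x y : Fin n × Bool) (t : F) : V ≃ₗ[F] V := nX Fr x y t * nX Fr x y (-1)

section hh

variable {x y : Fin n × Bool} (h : x.1 ≠ y.1) {t : F} (ht : t ≠ 0)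

include h ht

theorem hh_apply : hh Fr x y t (Fr.b x) = t • Fr.b x := by
  rw [hh, mul_apply', nX_apply_self Fr h (neg_ne_zero.2 one_ne_zero), map_neg, map_smul, nX_apply_neg Fr h ht]
  module

theorem hh_apply_neg : hh Fr x y t (Fr.b (neg x)) = (H.σ t)⁻¹ • Fr.b (neg x) := by
  have h1 := Fr.η_ne x
  have h2 := Fr.η_ne y
  have h3 := H.ε_ne
  have h4 : H.σ t ≠ 0 := by simpa using ht
  rw [hh, mul_apply', nX_apply_neg' Fr h (neg_ne_zero.2 one_ne_zero), map_neg, map_smul, nX_apply_self' Fr h ht,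
    map_neg, map_one]
  match_scalars
  field_simp

theorem hh_apply' : hh Fr x y t (Fr.b y) = H.σ t • Fr.b y := by
  have h1 := Fr.η_ne x
  have h2 := Fr.η_ne y
  have h3 := H.ε_ne
  have h4 : H.σ t ≠ 0 := by simpa using ht
  rw [hh, mul_apply', nX_apply_self' Fr h (neg_ne_zero.2 one_ne_zero), map_smul, nX_apply_neg' Fr h ht,
    map_neg, map_one]
  match_scalars
  field_simp

theorem hh_apply_neg' : hh Fr x y t (Fr.b (neg y)) = t⁻¹ • Fr.b (neg y) := by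
  rw [hh, mul_apply', nX_apply_neg Fr h (neg_ne_zero.2 one_ne_zero), map_smul, nX_apply_self Fr h ht]
  module

omit ht in
theorem hh_apply_of_ne {z : Fin n × Bool} (h1 : z.1 ≠ x.1) (h2 : z.1 ≠ y.1) : hh Fr x y t (Fr.b z) = Fr.b z := by
  rw [hh, mul_apply', nX_apply_of_ne Fr h h1 h2, nX_apply_of_ne Fr h h1 h2]

omit ht in
theorem hh_apply_V0 {v : V} (hv : v ∈ Fr.V0) : hh Fr x y t v = v := by
  rw [hh, mul_apply', nX_apply_V0 Fr h hv, nX_apply_V0 Fr h hv]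

theorem hh_apply_b {m : ℕ} (hm : t ^ m = 1) (z : Fin n × Bool) :
    ∃ l : F, l ≠ 0 ∧ hh Fr x y t (Fr.b z) = l • Fr.b z ∧ l ^ m = 1 := by
  have h4 : H.σ t ≠ 0 := by simpa using ht
  have h5 : H.σ t ^ m = 1 := by rw [← map_pow, hm, map_one]
  by_cases h1 : z.1 = x.1
  · rcases eq_or_ng h1 with rfl | rfl
    · exact ⟨t, ht, hh_apply h ht, hm⟩
    · exact ⟨(H.σ t)⁻¹, inv_ne_zero h4, hh_apply_neg h ht, by rw [inv_pow, h5, inv_one]⟩
  by_cases h2 : z.1 = y.1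
  · rcases eq_or_ng h2 with rfl | rfl
    · exact ⟨H.σ t, h4, hh_apply' h ht, h5⟩
    · exact ⟨t⁻¹, inv_ne_zero ht, hh_apply_neg' h ht, by rw [inv_pow, hm, inv_one]⟩
  · exact ⟨1, one_ne_zero, by rw [hh_apply_of_ne h h1 h2, one_smul], one_pow m⟩

theorem hh_mem (hA : Amb Fr G0) : hh Fr x y t ∈ Tor Fr G0 := by
  refine ⟨mul_mem (nX_mem hA _ _ _) (nX_mem hA _ _ _), fun z => ?_⟩
  obtain ⟨l, hl, h1, -⟩ := hh_apply_b h ht (Fr := Fr) (pow_zero t) z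
  exact ⟨l, hl, h1⟩

theorem hh_pow (hA : Amb Fr G0) {m : ℕ} (hm : t ^ m = 1) : hh Fr x y t ^ m = 1 := by
  refine pow_eq_one_of hA (fun z => ?_) fun w hw => ⟨1, by rw [hh_apply_V0 h hw, one_smul], one_pow m⟩
  obtain ⟨l, -, h1, h2⟩ := hh_apply_b h ht (Fr := Fr) hm z
  exact ⟨l, h1, h2⟩

theorem X_eq_iff {s s' : F} : Fr.X x y s = Fr.X x y s' ↔ s = s' := by
  refine ⟨fun h1 => ?_, fun h1 => by rw [h1]⟩
  have h2 := congrArg (fun g : V ≃ₗ[F] V => g (Fr.b (neg y))) h1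
  simp only [X_apply_neg Fr h] at h2
  have h3 := add_left_cancel h2
  have h4 : (s - s') • Fr.b x = 0 := by rw [sub_smul, h3, sub_self]
  exact sub_eq_zero.1 ((smul_eq_zero.1 h4).resolve_right (b_ne_zero x))

/-- the root elements `X x y s` commuting with `hh x y t` are trivial if `t ^ 2 ≠ 1` -/
theorem X_of_hh (ht2 : t ^ 2 ≠ 1) {s : F} (hc : hh Fr x y t * Fr.X x y s * (hh Fr x y t)⁻¹ = Fr.X x y s) :
    Fr.X x y s = 1 := by
  have h1 : hh Fr x y t * Fr.X x y s * (hh Fr x y t)⁻¹ = Fr.X x y (t ^ 2 * s) := by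
    rw [hh, mul_inv_rev]
    have e : nX Fr x y t * nX Fr x y (-1) * Fr.X x y s * ((nX Fr x y (-1))⁻¹ * (nX Fr x y t)⁻¹) =
        nX Fr x y t * (nX Fr x y (-1) * Fr.X x y s * (nX Fr x y (-1))⁻¹) * (nX Fr x y t)⁻¹ := by group
    rw [e, nX_conj_X Fr h (neg_ne_zero.2 one_ne_zero), nX_conj_X_neg Fr h ht]
    congr 1
    field_simp
  rw [h1, X_eq_iff h ht] at hc
  have h2 : (t ^ 2 - 1) * s = 0 := by linear_combination hc
  rw [(mul_eq_zero.1 h2).resolve_left (sub_ne_zero.2 ht2), Fr.X_zero]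

omit h ht in
theorem Z_eq_iff {x : Fin n × Bool} {p p' : Fr.Adm} : Fr.Z x p = Fr.Z x p' ↔ p = p' := by
  refine ⟨fun h1 => ?_, fun h1 => by rw [h1]⟩
  have h2 := congrArg (fun g : V ≃ₗ[F] V => g (Fr.b (neg x))) h1
  simp only [Z_apply_neg Fr] at h2
  -- pair with `b (neg x)`
  have h3 := congrArg (fun v => H.h v (Fr.b (neg x))) h2
  have h4 : H.h (Fr.b x) (Fr.b (neg x)) ≠ 0 := by
    have h5 := Fr.hb_neg_self (neg x)
    rw [WittFrame.neg_neg] at h5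
    rw [h5]
    exact Fr.η_ne _
  simp only [H.add_left, H.smul_left, Fr.h0' _ (Fr.ok_mem p.ok), Fr.h0' _ (Fr.ok_mem p'.ok), mul_zero, add_zero] at h3
  have h5 := mul_right_cancel₀ h4 (add_left_cancel h3)
  have hc : p.c = p'.c := mul_right_cancel₀ (Fr.η_ne x) h5
  rw [hc] at h2
  have h6 := add_left_cancel (add_right_cancel h2)
  have hw : p.w = p'.w := smul_right_injective _ (Fr.η_ne x) h6
  exact Frame.Adm.ext hw hc

/-- the root elements `Z (neg y) p` commuting with `hh x y t` are trivial if `t ≠ 1`, `t σ(t) ≠ 1` -/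
theorem Z_of_hh (ht1 : t ≠ 1) (ht2 : t * H.σ t ≠ 1) {p : Fr.Adm}
    (hc : hh Fr x y t * Fr.Z (neg y) p * (hh Fr x y t)⁻¹ = Fr.Z (neg y) p) : Fr.Z (neg y) p = 1 := by
  have h4 : H.σ t ≠ 0 := by simpa using ht
  have h1 : hh Fr x y t * Fr.Z (neg y) p * (hh Fr x y t)⁻¹ = Fr.Z (neg y) (Frame.Adm.smul (H.σ t)⁻¹ p) := by
    rw [hh, mul_inv_rev]
    have e : nX Fr x y t * nX Fr x y (-1) * Fr.Z (neg y) p * ((nX Fr x y (-1))⁻¹ * (nX Fr x y t)⁻¹) =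
        nX Fr x y t * (nX Fr x y (-1) * Fr.Z (neg y) p * (nX Fr x y (-1))⁻¹) * (nX Fr x y t)⁻¹ := by group
    rw [e, nX_conj_Z_neg Fr h (neg_ne_zero.2 one_ne_zero), nX_conj_Z Fr h ht, Frame.Adm.smul_smul]
    congr 2
    rw [map_neg, map_one]
    ring
  rw [h1, Z_eq_iff] at hc
  have hw : (H.σ t)⁻¹ • p.w = p.w := congrArg Frame.Adm.w hc
  have hcc : (H.σ t)⁻¹ * H.σ (H.σ t)⁻¹ * p.c = p.c := congrArg Frame.Adm.c hc
  rw [map_inv₀, H.σσ] at hcc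
  have hw0 : p.w = 0 := by
    have h5 : ((H.σ t)⁻¹ - 1) • p.w = 0 := by rw [sub_smul, hw, one_smul, sub_self]
    refine (smul_eq_zero.1 h5).resolve_left fun h6 => ht1 ?_
    have h7 : H.σ t = 1 := by rw [← inv_inv (H.σ t), sub_eq_zero.1 h6, inv_one]
    have h8 := congrArg H.σ h7
    rwa [H.σσ, map_one] at h8
  have hc0 : p.c = 0 := by
    have h5 : ((H.σ t)⁻¹ * t⁻¹ - 1) * p.c = 0 := by linear_combination hcc
    refine (mul_eq_zero.1 h5).resolve_left fun h6 => ht2 ?_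
    have h7 := sub_eq_zero.1 h6
    field_simp at h7
    rw [mul_comm]
    exact h7.symm
  have h9 : p = 1 := Frame.Adm.ext hw0 hc0
  rw [h9, Fr.Z_one]

end hh

end Cfsg.Agent.H724.EP
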